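import Groth.Agent.Lib.GrothVan.Sob
import Mathlib.Topology.Sheaves.SheafCondition.UniqueGluing
import Mathlib.Topology.Sheaves.Stalks
import Mathlib.Algebra.Category.Grp.FilteredColimits

/-!
Grothendieck's vanishing theorem.

The proof avoids colimits: a sheaf with stalks concentrated in rank `≤ e` maps to the flasque sheaf
of finitely supported families of stalks at points of rank `e`, with kernel and cokernel concentrated
in rank `< e`.
-/

set_option linter.style.haveILetI false

universe u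

open CategoryTheory CategoryTheory.Limits TopologicalSpace Opposite CategoryTheory.Abelian
open Groth.Agent.Lib.ZarCoh.Basic

namespace Groth.Agent.Lib.GrothVan

variable {S : TopCat.{u}}

/-- The stalk functor on abelian sheaves. -/
noncomputable abbrev St (x : S) : CohTop.Ab S ⥤ AddCommGrpCat.{u} :=
  TopCat.Sheaf.forget AddCommGrpCat.{u} S ⋙ TopCat.Presheaf.stalkFunctor AddCommGrpCat.{u} x

instance St_preservesEpi (x : S) : (St x).PreservesEpimorphisms :=
  inferInstanceAs (TopCat.Sheaf.forget AddCommGrpCat.{u} S ⋙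
    TopCat.Presheaf.stalkFunctor AddCommGrpCat.{u} x).PreservesEpimorphisms

instance St_preservesMono (x : S) : (St x).PreservesMonomorphisms :=
  TopCat.Presheaf.stalkFunctor_preserves_mono x

instance St_additive (x : S) : (St x).Additive where
  map_add {_ _ f g} := (TopCat.Presheaf.stalkFunctor AddCommGrpCat.{u} x).map_add (f := f.hom) (g := g.hom)

/-- A rank function suited to the proof: it increases strictly along generalisations, and a locally
closed set of rank `≤ e` has only finitely many points of rank `e`. -/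
structure Rank (S : TopCat.{u}) where
  ht : S → ℕ
  lt_of_specializes : ∀ z w : S, z ⤳ w → z ≠ w → ht w < ht z
  finite_top : ∀ (e : ℕ) (U : Opens S) (A : Set S), IsClosed A → (∀ z ∈ A, z ∈ U → ht z ≤ e) →
    {z : S | z ∈ A ∧ z ∈ U ∧ ht z = e}.Finite
  compact : ∀ U : Opens S, IsCompact (U : Set S)

variable (R : Rank S) (F : CohTop.Ab S) (e : ℕ)

/-- points of rank `e` -/
abbrev Pts := {z : S // R.ht z = e}

/-- families of stalks at rank `e` points, finitely supported in `U` -/
noncomputable def jSub (U : Opens S) :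
    AddSubgroup (∀ z : Pts R e, (TopCat.Presheaf.stalk F.obj z.1 : AddCommGrpCat.{u})) where
  carrier := {a | {z | a z ≠ 0}.Finite ∧ ∀ z, z.1 ∉ U → a z = 0}
  zero_mem' := ⟨by simp, fun _ _ => rfl⟩
  add_mem' {a b} ha hb := ⟨(ha.1.union hb.1).subset fun z hz => by
      by_contra h
      simp only [Set.mem_union, Set.mem_ofPred_eq, not_or, not_not] at h
      exact hz (by simp [h.1, h.2]), fun z hz => by simp [ha.2 z hz, hb.2 z hz]⟩
  neg_mem' {a} ha := ⟨ha.1.subset fun z hz => by simpa using hz, fun z hz => by simp [ha.2 z hz]⟩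

open Classical in
/-- restriction of families -/
noncomputable def jRes {U V : Opens S} : jSub R F e U →+ jSub R F e V where
  toFun a := ⟨fun z => if z.1 ∈ V then a.1 z else 0,
    a.2.1.subset fun z hz h => hz (by simp [h]), fun z hz => if_neg hz⟩
  map_zero' := by ext z; simp
  map_add' a b := by ext z; simp only [AddSubgroup.coe_add, Pi.add_apply]; split <;> simp

lemma jRes_apply {U V : Opens S} (a : jSub R F e U) (z : Pts R e) (hz : z.1 ∈ V) :
    (jRes R F e (V := V) a).1 z = a.1 z := by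
  classical exact if_pos hz

/-- the presheaf of finitely supported families -/
noncomputable def jPre : TopCat.Presheaf AddCommGrpCat.{u} S where
  obj U := AddCommGrpCat.of (jSub R F e U.unop)
  map {U V} _ := AddCommGrpCat.ofHom (jRes R F e)
  map_id U := by
    refine AddCommGrpCat.hom_ext (AddMonoidHom.ext fun a => Subtype.ext (funext fun z => ?_))
    change (jRes R F e (V := U.unop) a).1 z = a.1 z
    by_cases hz : z.1 ∈ U.unop
    · exact jRes_apply R F e a z hz
    · rw [(jRes R F e (V := U.unop) a).2.2 z hz, a.2.2 z hz]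
  map_comp {U V W} i j := by
    refine AddCommGrpCat.hom_ext (AddMonoidHom.ext fun a => Subtype.ext (funext fun z => ?_))
    change (jRes R F e (V := W.unop) a).1 z =
      (jRes R F e (V := W.unop) (jRes R F e (V := V.unop) a)).1 z
    by_cases hz : z.1 ∈ W.unop
    · rw [jRes_apply R F e _ z hz, jRes_apply R F e _ z hz, jRes_apply R F e _ z (j.unop.le hz)]
    · rw [(jRes R F e (V := W.unop) a).2.2 z hz, (jRes R F e (V := W.unop) _).2.2 z hz]

lemma jPre_isSheaf : TopCat.Presheaf.IsSheaf (jPre R F e) := by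
  classical
  rw [TopCat.Presheaf.isSheaf_iff_isSheafUniqueGluing]
  intro ι U sf hsf
  have hag : ∀ i j (z : Pts R e), z.1 ∈ U i → z.1 ∈ U j → (sf i).1 z = (sf j).1 z := fun i j z hi hj => by
    have h := congrArg (fun a : jSub R F e (U i ⊓ U j) => a.1 z) (hsf i j)
    change (jRes R F e (V := U i ⊓ U j) (sf i)).1 z = (jRes R F e (V := U i ⊓ U j) (sf j)).1 z at h
    exact (jRes_apply R F e (V := U i ⊓ U j) (sf i) z ⟨hi, hj⟩).symm.trans
      (h.trans (jRes_apply R F e (V := U i ⊓ U j) (sf j) z ⟨hi, hj⟩))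
  let a : ∀ z : Pts R e, (TopCat.Presheaf.stalk F.obj z.1 : AddCommGrpCat.{u}) := fun z =>
    if h : ∃ i, z.1 ∈ U i then (sf h.choose).1 z else 0
  have ha : ∀ i (z : Pts R e), z.1 ∈ U i → a z = (sf i).1 z := fun i z hz => by
    have h : ∃ i, z.1 ∈ U i := ⟨i, hz⟩
    simp only [a, dif_pos h]
    exact hag _ i z h.choose_spec hz
  obtain ⟨T, hT⟩ := (R.compact (iSup U)).elim_finite_subcover (fun i => (U i : Set S))
    (fun i => (U i).2) (by simp)
  refine ⟨(⟨a, (T.finite_toSet.biUnion fun i _ => (sf i).2.1).subset fun z hz => ?_, fun z hz => ?_⟩ :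
      jSub R F e (iSup U)),
    fun i => Subtype.ext (funext fun z => ?_), fun b hb => Subtype.ext (funext fun z => ?_)⟩
  · have hzU : z.1 ∈ (iSup U : Opens S) := by
      by_contra h
      exact hz (by simp only [a]; exact dif_neg fun ⟨i, hi⟩ => h (Opens.mem_iSup.2 ⟨i, hi⟩))
    obtain ⟨i, hiT, hzi⟩ := Set.mem_iUnion₂.1 (hT hzU)
    exact Set.mem_biUnion hiT (show (sf i).1 z ≠ 0 from (ha i z hzi) ▸ hz)
  · simp only [a]
    exact dif_neg fun ⟨i, hi⟩ => hz (Opens.mem_iSup.2 ⟨i, hi⟩)
  · by_cases hz : z.1 ∈ U i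
    · exact (jRes_apply R F e _ z hz).trans (ha i z hz)
    · exact ((jRes R F e (V := U i) _).2.2 z hz).trans ((sf i).2.2 z hz).symm
  · by_cases hz : z.1 ∈ (iSup U : Opens S)
    · obtain ⟨i, hi⟩ := Opens.mem_iSup.1 hz
      change b.1 z = a z
      rw [ha i z hi, ← hb i]
      exact (jRes_apply R F e b z hi).symm
    · change b.1 z = a z
      rw [b.2.2 z hz]
      simp only [a]
      rw [dif_neg (fun h : ∃ i, z.1 ∈ U i => hz (Opens.mem_iSup.2 h))]

/-- the sheaf of finitely supported families -/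
noncomputable def jSheaf : CohTop.Ab S := ⟨jPre R F e, jPre_isSheaf R F e⟩

instance jSheaf_isFlasque : TopCat.Sheaf.IsFlasque (jSheaf R F e) where
  epi {U V} i := by
    rw [AddCommGrpCat.epi_iff_surjective]
    intro a
    refine ⟨⟨a.1, a.2.1, fun z hz => a.2.2 z fun h => hz (i.unop.le h)⟩, Subtype.ext (funext fun z => ?_)⟩
    by_cases hz : z.1 ∈ V.unop
    · exact jRes_apply R F e _ z hz
    · exact ((jRes R F e (V := V.unop) _).2.2 z hz).trans (a.2.2 z hz).symm

/-- stalks of `F` vanish in rank `≥ e` -/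
def Below : Prop := ∀ z : S, e ≤ R.ht z → IsZero ((St z).obj F)

variable {R F e}

lemma germ_eq_zero {z : S} (h : IsZero ((St z).obj F)) (U : Opens S) (hz : z ∈ U)
    (s : F.obj.obj (op U)) : TopCat.Presheaf.germ F.obj U z hz s = 0 :=
  haveI := AddCommGrpCat.subsingleton_of_isZero h
  Subsingleton.elim (α := (St z).obj F) _ _

lemma isZero_of_below_zero (h : Below R F 0) : IsZero F := by
  rw [IsZero.iff_id_eq_zero]
  ext U s
  refine TopCat.Presheaf.section_ext F U.unop _ _ fun z hz => ?_
  exact (germ_eq_zero (h z (Nat.zero_le _)) U.unop hz _).trans (germ_eq_zero (h z (Nat.zero_le _)) U.unop hz _).symm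

lemma finite_supp (h : Below R F (e + 1)) (U : Opens S) (s : F.obj.obj (op U)) :
    {z : Pts R e | ∃ hz : z.1 ∈ U, TopCat.Presheaf.germ F.obj U z.1 hz s ≠ 0}.Finite := by
  have hopen : IsOpen {x : S | ∃ hx : x ∈ U, TopCat.Presheaf.germ F.obj U x hx s = 0} := by
    refine isOpen_iff_forall_mem_open.2 fun x ⟨hx, h0⟩ => ?_
    rw [← map_zero (TopCat.Presheaf.germ F.obj U x hx).hom] at h0
    obtain ⟨W, hW, i₁, i₂, hij⟩ := TopCat.Presheaf.germ_eq F.obj x hx hx _ _ h0
    refine ⟨W, fun y hy => ⟨i₁.le hy, ?_⟩, W.2, hW⟩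
    rw [← TopCat.Presheaf.germ_res_apply F.obj i₁ y hy s, hij, map_zero, map_zero]
  refine ((R.finite_top e U _ hopen.isClosed_compl fun z hz hzU => ?_).preimage
    Subtype.val_injective.injOn).subset fun z ⟨hz, hne⟩ => ⟨fun h' => hne h'.choose_spec, hz, z.2⟩
  by_contra hlt
  exact hz ⟨hzU, germ_eq_zero (h z (by omega)) U hzU s⟩

open Classical in
/-- the family of germs -/
noncomputable def germs (h : Below R F (e + 1)) : F ⟶ jSheaf R F e := ⟨
  { app := fun U => AddCommGrpCat.ofHom
      { toFun := fun s => ⟨fun z => if hz : z.1 ∈ U.unop then TopCat.Presheaf.germ F.obj U.unop z.1 hz s else 0,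
          (finite_supp h U.unop s).subset fun z hz => by
            by_cases hzU : z.1 ∈ U.unop
            · exact ⟨hzU, fun h0 => hz ((dif_pos hzU).trans h0)⟩
            · exact absurd (dif_neg hzU) hz,
          fun z hz => dif_neg hz⟩
        map_zero' := by ext z; by_cases hz : z.1 ∈ U.unop <;> simp [hz] <;> rfl
        map_add' := fun s t => by
          ext z
          by_cases hz : z.1 ∈ U.unop <;> simp [hz] <;> rfl }
    naturality := fun U V i => by
      refine AddCommGrpCat.hom_ext (AddMonoidHom.ext fun s => Subtype.ext (funext fun z => ?_))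
      change dite _ _ _ = (jRes R F e (V := V.unop) _).1 z
      by_cases hz : z.1 ∈ V.unop
      · refine (dif_pos hz).trans ((TopCat.Presheaf.germ_res_apply F.obj i.unop z.1 hz s).trans
          (Eq.symm ?_))
        refine (jRes_apply R F e (V := V.unop) _ z hz).trans ?_
        exact dif_pos (i.unop.le hz)
      · exact (dif_neg hz).trans ((jRes R F e (V := V.unop) _).2.2 z hz).symm }⟩

lemma germs_app (h : Below R F (e + 1)) (U : Opens S) (s : F.obj.obj (op U)) (z : Pts R e)
    (hz : z.1 ∈ U) : ((germs h).hom.app (op U) s).1 z = TopCat.Presheaf.germ F.obj U z.1 hz s := by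
  classical exact dif_pos hz

lemma below_kernel (h : Below R F (e + 1)) : Below R (kernel (germs h)) e := by
  intro z hz
  rcases Nat.lt_or_ge e (R.ht z) with hlt | hge
  · exact IsZero.of_mono ((St z).map (kernel.ι (germs h))) (h z hlt)
  · have hze : R.ht z = e := le_antisymm hge hz
    haveI : Mono ((St z).map (germs h)) := by
      rw [AddCommGrpCat.mono_iff_injective, injective_iff_map_eq_zero]
      intro c hc
      obtain ⟨U, hzU, s, rfl⟩ := TopCat.Presheaf.exists_germ_eq F.obj c
      have h1 : TopCat.Presheaf.germ (jSheaf R F e).obj U z hzU ((germs h).hom.app (op U) s) =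
          TopCat.Presheaf.germ (jSheaf R F e).obj U z hzU 0 := by
        rw [map_zero]
        exact (TopCat.Presheaf.stalkFunctor_map_germ_apply U z hzU (germs h).hom s).symm.trans hc
      obtain ⟨W, hW, i₁, i₂, hij⟩ := TopCat.Presheaf.germ_eq _ z hzU hzU _ _ h1
      have h2 := congrArg (fun a : jSub R F e W => a.1 ⟨z, hze⟩) hij
      rw [map_zero] at h2
      change (jRes R F e (V := W) ((germs h).hom.app (op U) s)).1 ⟨z, hze⟩ = 0 at h2
      exact (germs_app h U s ⟨z, hze⟩ hzU).symm.trans ((jRes_apply R F e (V := W) _ ⟨z, hze⟩ hW).symm.trans h2)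
    refine IsZero.of_mono_eq_zero ((St z).map (kernel.ι (germs h))) ?_
    rw [← cancel_mono ((St z).map (germs h)), ← Functor.map_comp, kernel.condition, Functor.map_zero,
      zero_comp]

lemma below_cokernel (h : Below R F (e + 1)) : Below R (cokernel (germs h)) e := by
  intro z hz
  haveI : Epi ((St z).map (germs h)) := by
    rw [AddCommGrpCat.epi_iff_surjective]
    intro c
    obtain ⟨U, hzU, a, rfl⟩ := TopCat.Presheaf.exists_germ_eq (jSheaf R F e).obj c
    -- a representative of the component at `z`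
    obtain ⟨W, hzW, hWU, s, hs⟩ : ∃ (W : Opens S) (_ : z ∈ W) (_ : W ≤ U) (s : F.obj.obj (op W)),
        ∀ hze : R.ht z = e, TopCat.Presheaf.germ F.obj W z ‹_› s = a.1 ⟨z, hze⟩ := by
      by_cases hze : R.ht z = e
      · obtain ⟨W, hzW, s, hs⟩ := TopCat.Presheaf.exists_germ_eq F.obj (a.1 ⟨z, hze⟩)
        refine ⟨W ⊓ U, ⟨hzW, hzU⟩, inf_le_right, F.obj.map (homOfLE inf_le_left).op s, fun _ => ?_⟩
        exact (TopCat.Presheaf.germ_res_apply F.obj (homOfLE (inf_le_left : W ⊓ U ≤ W)) z
          (show z ∈ W ⊓ U from ⟨hzW, hzU⟩) s).trans hs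
      · exact ⟨U, hzU, le_rfl, 0, fun h' => absurd h' hze⟩
    refine ⟨TopCat.Presheaf.germ F.obj W z hzW s, ?_⟩
    rw [← TopCat.Presheaf.germ_res_apply (jSheaf R F e).obj (homOfLE hWU) z hzW a]
    refine (TopCat.Presheaf.stalkFunctor_map_germ_apply W z hzW (germs h).hom s).trans ?_
    let b : jSub R F e W := (germs h).hom.app (op W) s - (jSheaf R F e).obj.map (homOfLE hWU).op a
    -- a neighbourhood avoiding the support of the difference
    have hfin : {w : Pts R e | b.1 w ≠ 0 ∧ w.1 ≠ z}.Finite := b.2.1.subset fun w hw => hw.1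
    let C : Set S := ⋃ w ∈ {w : Pts R e | b.1 w ≠ 0 ∧ w.1 ≠ z}, closure {w.1}
    have hC : IsClosed C := hfin.isClosed_biUnion fun _ _ => isClosed_closure
    have hzC : z ∉ C := by
      intro hzC
      obtain ⟨w, hw, hzw⟩ := Set.mem_iUnion₂.1 hzC
      have := R.lt_of_specializes w.1 z (specializes_iff_mem_closure.2 hzw) hw.2
      rw [w.2] at this
      omega
    let W' : Opens S := W ⊓ ⟨Cᶜ, hC.isOpen_compl⟩
    refine TopCat.Presheaf.germ_ext (F := (jSheaf R F e).obj) W' ⟨hzW, hzC⟩
      (homOfLE inf_le_left) (homOfLE inf_le_left) ?_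
    refine sub_eq_zero.1 ((map_sub ((jSheaf R F e).obj.map (homOfLE (inf_le_left : W' ≤ W)).op).hom
      _ _).symm.trans (Subtype.ext (funext fun w => ?_)))
    change (jRes R F e (V := W') b).1 w = 0
    by_cases hw : w.1 ∈ W'
    · rw [jRes_apply R F e _ w hw]
      by_contra hne
      by_cases hwz : w.1 = z
      · apply hne
        obtain ⟨w, hwe⟩ := w
        subst hwz
        change ((germs h).hom.app (op W) s).1 ⟨w, hwe⟩ - (jRes R F e (V := W) a).1 ⟨w, hwe⟩ = 0
        rw [germs_app h W s ⟨w, hwe⟩ hzW, jRes_apply R F e a ⟨w, hwe⟩ hzW, hs hwe, sub_self]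
      · exact hw.2 (Set.mem_biUnion (⟨hne, hwz⟩ : b.1 w ≠ 0 ∧ w.1 ≠ z) (subset_closure rfl))
    · exact (jRes R F e (V := W') b).2.2 w hw
  refine IsZero.of_epi_eq_zero ((St z).map (cokernel.π (germs h))) ?_
  rw [← cancel_epi ((St z).map (germs h)), ← Functor.map_comp, cokernel.condition, Functor.map_zero,
    comp_zero]

/-- vanishing in high degrees for sheaves supported in low rank -/
theorem vanish (e : ℕ) : ∀ F : CohTop.Ab S, Below R F e → ∀ n, e ≤ n → (e = 0 ∨ n ≠ 0) →
    Subsingleton (CohTop.H F n) := by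
  induction e with
  | zero =>
    intro F h n _ _
    have hF := isZero_of_below_zero h
    refine subsingleton_of_forall_eq 0 fun ξ => ?_
    have h1 := ξ.comp_mk₀_id
    rw [hF.eq_of_src (𝟙 F) 0] at h1
    simpa using h1.symm
  | succ e ih =>
    intro F h n hn _
    obtain ⟨m, rfl⟩ : ∃ m, n = m + 1 := ⟨n - 1, by omega⟩
    have hK := ih _ (below_kernel h) (m + 1) (by omega) (Or.inr (by omega))
    have hQ := ih _ (below_cokernel h) m (by omega) (by omega)
    let S₁ : ShortComplex (CohTop.Ab S) :=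
      ShortComplex.mk (kernel.ι (germs h)) (Abelian.factorThruImage (germs h)) (by
        rw [← cancel_mono (Abelian.image.ι (germs h)), Category.assoc, Abelian.image.fac,
          kernel.condition, zero_comp])
    have hS₁ : S₁.ShortExact :=
      { exact := by
          let φ : S₁ ⟶ ShortComplex.mk (kernel.ι (germs h)) (germs h) (kernel.condition _) :=
            ⟨𝟙 _, 𝟙 _, Abelian.image.ι (germs h), by simp [S₁], by simp [S₁]⟩
          haveI : Epi φ.τ₁ := inferInstanceAs (Epi (𝟙 _))
          haveI : IsIso φ.τ₂ := inferInstanceAs (IsIso (𝟙 _))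
          haveI : Mono φ.τ₃ := inferInstanceAs (Mono (Abelian.image.ι (germs h)))
          exact (ShortComplex.exact_iff_of_epi_of_isIso_of_mono φ).2
            (ShortComplex.exact_of_f_is_kernel _ (kernelIsKernel _))
        mono_f := inferInstanceAs (Mono (kernel.ι (germs h)))
        epi_g := inferInstanceAs (Epi (Abelian.factorThruImage (germs h))) }
    let S₂ : ShortComplex (CohTop.Ab S) :=
      ShortComplex.mk (Abelian.image.ι (germs h)) (cokernel.π (germs h)) (kernel.condition _)
    have hS₂ : S₂.ShortExact :=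
      { exact := ShortComplex.exact_of_f_is_kernel _ (kernelIsKernel _)
        mono_f := inferInstanceAs (Mono (Abelian.image.ι (germs h)))
        epi_g := inferInstanceAs (Epi (cokernel.π (germs h))) }
    have hI : Subsingleton (CohTop.H S₂.X₁ (m + 1)) := by
      refine subsingleton_of_forall_eq 0 fun ξ => ?_
      obtain ⟨y, rfl⟩ := Ext.covariant_sequence_exact₁ _ hS₂ ξ
        ((H_flasque (jSheaf R F e) m).elim _ _) (rfl : m + 1 = m + 1)
      rw [hQ.elim y 0, Ext.zero_comp]
    refine subsingleton_of_forall_eq 0 fun ξ => ?_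
    obtain ⟨y, rfl⟩ := Ext.covariant_sequence_exact₂ _ hS₁ ξ (hI.elim _ _)
    rw [hK.elim y 0, Ext.zero_comp]

lemma toNat_lt {a b : ℕ∞} (hb : b ≠ ⊤) (h : a < b) : a.toNat < b.toNat := by
  obtain ⟨b, rfl⟩ := ENat.ne_top_iff_exists.1 hb
  obtain ⟨a, rfl⟩ := ENat.ne_top_iff_exists.1 h.ne_top
  simpa using h

/-- the height of an irreducible closed subset, as a rank function -/
noncomputable def sobRank (X : TopCat.{u}) [NoetherianSpace X] (d : ℕ)
    (hd : topologicalKrullDim X ≤ d) : Rank (Sob X) where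
  ht Z := (Order.height (show SobPt X from Z).val).toNat
  lt_of_specializes z w h hne := by
    have hfin : ∀ Z : IrreducibleCloseds X, Order.height Z ≠ ⊤ := fun Z h0 => by
      have h1 : ((Order.height Z : ℕ∞) : WithBot ℕ∞) ≤ (d : WithBot ℕ∞) :=
        (Order.height_le_krullDim Z).trans hd
      rw [h0] at h1
      exact absurd (WithBot.coe_le_coe.1 h1) (by simp)
    have hlt : (show SobPt X from w).val < (show SobPt X from z).val :=
      lt_of_le_of_ne (SobPt.le_of_specializes h) fun h' => hne (congrArg SobPt.mk h').symm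
    exact toNat_lt (hfin _) (Order.height_strictMono hlt (lt_top_iff_ne_top.2 (hfin _)))
  finite_top e U A hA hle := by
    obtain ⟨U₀, hU₀⟩ := hA.isOpen_compl
    obtain ⟨T, hTfin, hTc, hTi, hT⟩ := NoetherianSpace.exists_finite_set_isClosed_irreducible
      (U₀.2.isClosed_compl)
    have hmemA : ∀ Z : SobPt X, (Z.val : Set X) ⊆ (U₀ : Set X)ᶜ → Z ∈ A := fun Z hZ => by
      by_contra h
      obtain ⟨x, hx, hxU⟩ : Z ∈ SobPt.opn U₀ := hU₀ ▸ h
      exact hZ hx hxU
    haveI : Finite T := hTfin.to_subtype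
    refine (Set.finite_range fun t : T => SobPt.mk ⟨t.1, hTi _ t.2, hTc _ t.2⟩).subset ?_
    rintro Z ⟨hZA, hZU, hZe⟩
    let Z' : SobPt X := Z
    have hsub : (Z'.val : Set X) ⊆ (U₀ : Set X)ᶜ := fun x hx hxU =>
      (hU₀ ▸ (⟨x, hx, hxU⟩ : Z' ∈ SobPt.opn U₀) : Z' ∈ Aᶜ) hZA
    obtain ⟨t, ht, hZt⟩ := isIrreducible_iff_sUnion_isClosed.1 Z'.val.isIrreducible hTfin.toFinset
      (by simpa using hTc) (by simpa [← hT] using hsub)
    rw [Set.Finite.mem_toFinset] at ht
    refine ⟨⟨t, ht⟩, ?_⟩
    let W : SobPt X := ⟨⟨t, hTi _ ht, hTc _ ht⟩⟩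
    have hWA : W ∈ A := hmemA W fun x hx => hT ▸ Set.mem_sUnion_of_mem hx ht
    have hWU : (W : SobPt X) ∈ (U : Set (Sob X)) := by
      obtain ⟨U₁, hU₁⟩ := U.2
      have hU₁' : (U : Set (Sob X)) = SobPt.opn U₁ := hU₁
      rw [hU₁']
      have hZU' : Z' ∈ (U : Set (Sob X)) := hZU
      rw [hU₁'] at hZU'
      obtain ⟨x, hx, hxU⟩ := hZU'
      exact ⟨x, hZt hx, hxU⟩
    have hWle := hle W hWA hWU
    have hle' : Z'.val ≤ W.val := hZt
    refine congrArg SobPt.mk (hle'.eq_of_not_lt fun hlt => ?_).symm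
    have hfin : ∀ Z : IrreducibleCloseds X, Order.height Z ≠ ⊤ := fun Z h0 => by
      have h1 : ((Order.height Z : ℕ∞) : WithBot ℕ∞) ≤ (d : WithBot ℕ∞) :=
        (Order.height_le_krullDim Z).trans hd
      rw [h0] at h1
      exact absurd (WithBot.coe_le_coe.1 h1) (by simp)
    have := toNat_lt (hfin _) (Order.height_strictMono hlt (lt_top_iff_ne_top.2 (hfin _)))
    change (Order.height Z'.val).toNat = e at hZe
    change (Order.height W.val).toNat ≤ e at hWle
    omega
  compact U := by
    obtain ⟨U₁, hU₁⟩ := U.2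
    have hU₁' : (U : Set (Sob X)) = SobPt.opn U₁ := hU₁
    rw [hU₁']
    refine isCompact_of_finite_subcover fun V hV hcov => ?_
    choose V₀ hV₀ using hV
    obtain ⟨T, hT⟩ := (NoetherianSpace.isCompact (U₁ : Set X)).elim_finite_subcover
      (fun i => (V₀ i : Set X)) (fun i => (V₀ i).2) fun x hx => by
        obtain ⟨i, hi⟩ := Set.mem_iUnion.1 (hcov (mem_preimage_quot.2 hx : quot X x ∈ SobPt.opn U₁))
        rw [hV₀ i] at hi
        exact Set.mem_iUnion.2 ⟨i, mem_preimage_quot.1 hi⟩
    refine ⟨T, fun Z ⟨x, hx, hxU⟩ => ?_⟩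
    obtain ⟨i, hiT, hxi⟩ := Set.mem_iUnion₂.1 (hT hxU)
    exact Set.mem_biUnion hiT (hV₀ i ▸ ⟨x, hx, hxi⟩)

/-- **Grothendieck vanishing.** -/
theorem H_subsingleton {X : TopCat.{u}} [NoetherianSpace X] (d : ℕ)
    (hd : topologicalKrullDim X ≤ d) (F : CohTop.Ab X) (p : ℕ) (hp : d < p) :
    Subsingleton (CohTop.H F p) := by
  refine subsingleton_H_of_sob F p (vanish (R := sobRank X d hd) (d + 1) _ (fun z hz => ?_) p hp
    (Or.inr (by omega)))
  exfalso
  let Z : SobPt X := z
  have h1 : ((Order.height Z.val : ℕ∞) : WithBot ℕ∞) ≤ (d : WithBot ℕ∞) :=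
    (Order.height_le_krullDim _).trans hd
  have h2 : Order.height Z.val ≤ (d : ℕ∞) := WithBot.coe_le_coe.1 h1
  have h3 : (Order.height Z.val).toNat ≤ d := by simpa using ENat.toNat_le_toNat h2 (by simp)
  have h4 : d + 1 ≤ (Order.height Z.val).toNat := hz
  omega

end Groth.Agent.Lib.GrothVan
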