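import Groth.Agent.Lib.ZarCoh.Compare
import Mathlib.Topology.NoetherianSpace
import Mathlib.Topology.KrullDimension
import Mathlib.Topology.Sheaves.Abelian

/-!
Passing from a space to its space of irreducible closed subsets.
-/

set_option linter.style.haveILetI false

universe u

open CategoryTheory CategoryTheory.Limits TopologicalSpace Opposite CategoryTheory.Abelian
open Groth.Agent.Lib.ZarCoh.Basic Groth.Agent.Lib.ZarCoh.Compare

namespace Groth.Agent.Lib.GrothVan

variable (X : TopCat.{u})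

/-- Irreducible closed subsets, as points. -/
structure SobPt where
  /-- the underlying irreducible closed set -/
  val : IrreducibleCloseds X

namespace SobPt

variable {X}

/-- The open set of irreducible closed subsets meeting `U`. -/
def opn (U : Opens X) : Set (SobPt X) := {Z | ((Z.val : Set X) ∩ U).Nonempty}

instance : TopologicalSpace (SobPt X) where
  IsOpen s := ∃ U : Opens X, s = opn U
  isOpen_univ := ⟨⊤, by
    ext Z
    simpa [opn] using Z.val.isIrreducible.nonempty⟩
  isOpen_inter := by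
    rintro _ _ ⟨U, rfl⟩ ⟨V, rfl⟩
    refine ⟨U ⊓ V, Set.ext fun Z => ⟨fun h => ?_, fun ⟨x, hx, hU, hV⟩ => ⟨⟨x, hx, hU⟩, ⟨x, hx, hV⟩⟩⟩⟩
    exact Z.val.isIrreducible.2 U V U.2 V.2 h.1 h.2
  isOpen_sUnion S hS := by
    choose U hU using hS
    refine ⟨⨆ (s : Set (SobPt X)) (hs : s ∈ S), U s hs, Set.ext fun Z => ?_⟩
    constructor
    · rintro ⟨s, hs, hZ⟩
      rw [hU s hs] at hZ
      obtain ⟨x, hx, hxU⟩ := hZ
      exact ⟨x, hx, Opens.mem_iSup.2 ⟨s, Opens.mem_iSup.2 ⟨hs, hxU⟩⟩⟩
    · rintro ⟨x, hx, hxU⟩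
      obtain ⟨s, hxs⟩ := Opens.mem_iSup.1 hxU
      obtain ⟨hs, hxU⟩ := Opens.mem_iSup.1 hxs
      exact ⟨s, hs, (hU s hs).symm ▸ ⟨x, hx, hxU⟩⟩

lemma isOpen_opn (U : Opens X) : IsOpen (opn U) := ⟨U, rfl⟩

lemma le_of_specializes {Z W : SobPt X} (h : Z ⤳ W) : W.val ≤ Z.val := by
  intro x hx
  by_contra hxZ
  obtain ⟨y, hy, hy'⟩ := h.mem_open (isOpen_opn ⟨(Z.val : Set X)ᶜ, Z.val.isClosed.isOpen_compl⟩)
    ⟨x, hx, hxZ⟩
  exact hy' hy

end SobPt

/-- The space of irreducible closed subsets. -/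
def Sob : TopCat.{u} := TopCat.of (SobPt X)

/-- The canonical map. -/
def quot : X ⟶ Sob X := TopCat.ofHom
  ⟨fun x => ⟨⟨closure {x}, isIrreducible_singleton.closure, isClosed_closure⟩⟩, by
    refine continuous_def.2 fun s ⟨U, hU⟩ => ?_
    subst hU
    convert U.2
    ext x
    constructor
    · rintro ⟨y, hy, hyU⟩
      obtain ⟨z, hz1, hz2⟩ := mem_closure_iff.1 hy U U.2 hyU
      exact hz2 ▸ hz1
    · exact fun hx => ⟨x, subset_closure rfl, hx⟩⟩

variable {X}

lemma mem_preimage_quot {U : Opens X} {x : X} :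
    quot X x ∈ SobPt.opn U ↔ x ∈ U := by
  constructor
  · rintro ⟨y, hy, hyU⟩
    obtain ⟨z, hz1, hz2⟩ := mem_closure_iff.1 hy U U.2 hyU
    exact hz2 ▸ hz1
  · exact fun hx => ⟨x, subset_closure rfl, hx⟩

instance push_preservesEpimorphisms : (CohTop.push (quot X)).PreservesEpimorphisms where
  preserves {F G} φ hφ := by
    refine (TopCat.Sheaf.isLocallySurjective_iff_epi _).1 ?_
    refine (TopCat.Presheaf.isLocallySurjective_iff _).2 fun W t Z hZ => ?_
    obtain ⟨U, hU'⟩ := W.2
    have hU : (W : Set (Sob X)) = SobPt.opn U := hU'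
    have hWU : (Opens.map (quot X)).obj W = U := by
      ext x
      change quot X x ∈ (W : Set (Sob X)) ↔ _
      rw [hU]
      exact mem_preimage_quot
    obtain ⟨x, hxZ, hxU⟩ : (((show SobPt X from Z).val : Set X) ∩ U).Nonempty := by
      change Z ∈ (W : Set (Sob X)) at hZ
      rwa [hU] at hZ
    obtain ⟨V, hV, ⟨s, hs⟩, hxV⟩ := (TopCat.Presheaf.isLocallySurjective_iff φ.hom).1
      ((TopCat.Sheaf.isLocallySurjective_iff_epi φ).2 hφ) ((Opens.map (quot X)).obj W) t x
      (hWU ▸ hxU)
    let V' : Opens (Sob X) := ⟨SobPt.opn V, SobPt.isOpen_opn V⟩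
    have hV'V : (Opens.map (quot X)).obj V' = V := by
      ext y; exact mem_preimage_quot
    have hV'W : V' ≤ W := by
      intro z hz
      change z ∈ (W : Set (Sob X))
      rw [hU]
      obtain ⟨y, hy, hyV⟩ := hz
      exact ⟨y, hy, hWU ▸ hV hyV⟩
    refine ⟨V', hV'W, ⟨F.obj.map (eqToHom hV'V).op s, ?_⟩, ⟨x, hxZ, hxV⟩⟩
    change φ.hom.app _ (F.obj.map (eqToHom hV'V).op s) = G.obj.map _ t
    have hnat : φ.hom.app _ (F.obj.map (eqToHom hV'V).op s) =
        G.obj.map (eqToHom hV'V).op (φ.hom.app _ s) :=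
      congr($(φ.hom.naturality (eqToHom hV'V).op) s)
    rw [hnat, hs]
    change (G.obj.map _ ≫ G.obj.map _) t = _
    rw [← Functor.map_comp]
    rfl

instance push_preservesFiniteLimits : PreservesFiniteLimits (CohTop.push (quot X)) :=
  haveI : PreservesLimitsOfSize.{0, 0} (CohTop.push (quot X)) :=
    (ppAdj (quot X)).rightAdjoint_preservesLimits
  PreservesLimitsOfSize.preservesFiniteLimits (CohTop.push (quot X))

instance push_preservesFiniteColimits : PreservesFiniteColimits (CohTop.push (quot X)) := by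
  haveI : (CohTop.push (quot X)).PreservesHomology :=
    (CohTop.push (quot X)).preservesHomology_of_preservesEpis_and_kernels
  exact Functor.preservesFiniteColimits_of_preservesHomology _

/-- Vanishing on the space of irreducible closed sets gives vanishing on `X`. -/
theorem subsingleton_H_of_sob (F : CohTop.Ab X) (n : ℕ)
    (h : Subsingleton (CohTop.H ((CohTop.push (quot X)).obj F) n)) :
    Subsingleton (CohTop.H F n) := by
  let c : Zs.obj (⊤ : Opens (Sob X)) ⟶ (CohTop.push (quot X)).obj (Zs.obj (⊤ : Opens X)) :=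
    (homEquiv ⊤ _).symm (gen (⊤ : Opens X))
  have hb := cmp_bijective (CohTop.push (quot X)) c (fun G => ?_)
    (fun G hG => ?_) (fun G m hG => HU_flasque G ⊤ m) n F
  · haveI := (hTop ((CohTop.push (quot X)).obj F) n).symm.toEquiv.subsingleton
    haveI : Subsingleton (Ext.{u} (Zs.obj (⊤ : Opens X)) F n) := hb.1.subsingleton
    exact (hTop F n).toEquiv.subsingleton
  · have : (fun g : Zs.obj (⊤ : Opens X) ⟶ G => c ≫ (CohTop.push (quot X)).map g) =
        fun g => (homEquiv (⊤ : Opens (Sob X)) ((CohTop.push (quot X)).obj G)).symm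
          (homEquiv (⊤ : Opens X) G g) := by
      funext g
      apply (homEquiv _ _).injective
      refine Eq.trans ?_ (Equiv.apply_symm_apply (homEquiv (⊤ : Opens (Sob X)) ((CohTop.push (quot X)).obj G)) _).symm
      refine (homEquiv_comp c _).trans ?_
      refine (congrArg _ (Equiv.apply_symm_apply (homEquiv (⊤ : Opens (Sob X))
        ((CohTop.push (quot X)).obj (Zs.obj (⊤ : Opens X)))) _)).trans ?_
      exact (homEquiv_apply g).symm
    rw [this]
    exact (homEquiv (⊤ : Opens (Sob X)) _).symm.bijective.comp (homEquiv ⊤ G).bijective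
  · haveI := hG
    infer_instance

end Groth.Agent.Lib.GrothVan
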